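import Cfsg.Agent.S4458

/-! A nilpotent group with squarefree character degrees is metabelian. -/

set_option autoImplicit false
set_option linter.style.haveILetI false

namespace Cfsg.Agent.CT.SquarefreeDegrees

open Cfsg Subgroup

universe u

theorem deg_dvd_of_restrict {G : Type u} [Group G] [Finite G] (N : Subgroup G) [N.Normal]
    {φ : N → ℂ} (hφ : IsIrrCharacter N φ) : ∃ χ : IrrCharacter G, CT.deg φ ∣ CT.deg (χ : G → ℂ) := by
  haveI := Fintype.ofFinite G
  letI := Fintype.ofFinite N
  obtain ⟨χ, hχ⟩ := CT.exists_irr_over N hφ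
  exact ⟨χ, Dvd.intro_left _ (CT.clifford_mult N χ.2 hφ hχ).symm⟩

theorem squarefree_normal {G : Type u} [Group G] [Finite G]
    (h : ∀ χ : IrrCharacter G, Squarefree (CT.deg (χ : G → ℂ))) (N : Subgroup G) [N.Normal] :
    ∀ φ : IrrCharacter N, Squarefree (CT.deg (φ : N → ℂ)) := fun φ => by
  obtain ⟨χ, hχ⟩ := deg_dvd_of_restrict N φ.2
  exact (h χ).squarefree_of_dvd hχ

theorem metabelian_pGroup {P : Type u} [Group P] [Finite P] {p : ℕ} [hp : Fact p.Prime]
    (hP : IsPGroup p P) (h : ∀ χ : IrrCharacter P, Squarefree (CT.deg (χ : P → ℂ))) :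
    derivedSeries P 2 = ⊥ := by
  haveI := hP.isNilpotent
  have hab := S4458.metabelian_of_nilpotent (G := P) p (fun χ hχ => by
    haveI := Fintype.ofFinite P
    obtain ⟨n, hn⟩ := hP.exists_card_eq
    obtain ⟨i, -, hi⟩ := (Nat.dvd_prime_pow hp.out).mp (hn ▸ Glauberman.deg_dvd_card ⟨χ, hχ⟩)
    have hsq : Squarefree (CT.deg χ) := h ⟨χ, hχ⟩
    rcases i with _ | _ | i
    · left; simpa using hi
    · right; simpa using hi
    · exfalso
      have hu := hsq p (by rw [hi]; exact ⟨p ^ i, by ring⟩)
      exact hp.out.ne_one (Nat.isUnit_iff.mp hu)) hp.out.ne_zero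
  rw [derivedSeries_succ, derivedSeries_one, eq_bot_iff, Subgroup.commutator_le]
  intro a ha b hb
  rw [mem_bot, commutatorElement_eq_one_iff_mul_comm]
  exact hab a ha b hb

theorem metabelian_nilpotent {F : Type u} [Group F] [Finite F] [Group.IsNilpotent F]
    (h : ∀ χ : IrrCharacter F, Squarefree (CT.deg (χ : F → ℂ))) : derivedSeries F 2 = ⊥ := by
  classical
  have hn : ∀ {p : ℕ} [Fact p.Prime] (P : Sylow p F), (P : Subgroup F).Normal := by
    intro p hp P
    exact ((Group.isNilpotent_of_finite_tfae (G := F)).out 0 3 :).mp inferInstance p hp P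
  let e := (Sylow.directProductOfNormal (G := F) hn).symm
  rw [eq_bot_iff]
  intro g hg
  rw [mem_bot]
  refine e.injective (funext fun p => funext fun P => ?_)
  haveI : Fact (p : ℕ).Prime := ⟨Nat.prime_of_mem_primeFactors p.2⟩
  let π : F →* (P : Subgroup F) :=
    ((Pi.evalMonoidHom (fun Q : Sylow (p : ℕ) F => (Q : Subgroup F)) P).comp
      (Pi.evalMonoidHom (fun q : (Nat.card F).primeFactors => ∀ Q : Sylow (q : ℕ) F, Q) p)).comp
        e.toMonoidHom
  have hπ : Function.Surjective π := by
    intro x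
    refine ⟨e.symm (Function.update 1 p (Function.update 1 P x)), ?_⟩
    simp [π]
  have hsq : ∀ χ : IrrCharacter (P : Subgroup F), Squarefree (CT.deg (χ : ↥(P : Subgroup F) → ℂ)) :=
    fun χ => by
      have := h ⟨_, CT.isIrrCharacter_comp π hπ χ.2⟩
      simpa [CT.deg] using this
  have h1 : π g ∈ derivedSeries (P : Subgroup F) 2 :=
    map_derivedSeries_le_derivedSeries π 2 ⟨g, hg, rfl⟩
  rw [metabelian_pGroup P.isPGroup' hsq, mem_bot] at h1
  simpa [π] using h1

theorem derivedSeries_add_le {G : Type u} [Group G] (H : Subgroup G) {a : ℕ}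
    (h : derivedSeries G a ≤ H) (k : ℕ) :
    derivedSeries G (a + k) ≤ (derivedSeries H k).map H.subtype := by
  induction k with
  | zero => simpa [← MonoidHom.range_eq_map] using h
  | succ k ih =>
    rw [← add_assoc, derivedSeries_succ, derivedSeries_succ, Subgroup.map_commutator]
    exact commutator_mono ih ih

end Cfsg.Agent.CT.SquarefreeDegrees
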