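import Cfsg.Agent.Lib.CT.SquarefreeDegrees.Quotient

/-! Squarefree degrees in a solvable group: derived length at most four. -/

set_option autoImplicit false
set_option linter.style.haveILetI false

namespace Cfsg.Agent.CT.SquarefreeDegrees

open Cfsg Subgroup
open scoped commutatorElement

universe u

theorem derived_four {G : Type u} [Group G] [Finite G] [Group.IsSolvable G]
    (h : ∀ χ : IrrCharacter G, Squarefree (CT.deg (χ : G → ℂ))) : derivedSeries G 4 = ⊥ := by
  classical
  set F := Cfsg.fittingSubgroup G with hF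
  haveI hFn : F.Normal := BrolineGarrison.fitting_normal G
  set Φ := frattini G with hΦdef
  have hΦF : Φ ≤ F := Basics.frattini_le_fittingSubgroup
  set π := QuotientGroup.mk' Φ with hπ
  have hπs : Function.Surjective π := QuotientGroup.mk'_surjective Φ
  haveI : (F.map π).Normal := Normal.map hFn _ hπs
  haveI hFnil : Group.IsNilpotent F := by rw [hF]; infer_instance
  haveI : Group.IsSolvable (G ⧸ Φ) := Group.isSolvable_of_surjective hπs
  have hsq' : ∀ χ : IrrCharacter (G ⧸ Φ), Squarefree (CT.deg (χ : G ⧸ Φ → ℂ)) := fun χ => by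
    have := h ⟨_, CT.isIrr_inflate Φ χ.2 (fun g => rfl)⟩
    simpa [CT.deg] using this
  have hcomap : (F.map π).comap π = F := by
    rw [comap_map_eq, hπ, QuotientGroup.ker_mk', sup_eq_left.mpr hΦF]
  have hcomm : ∀ a b : F.map π, a * b = b * a := by
    rintro ⟨_, a, ha, rfl⟩ ⟨_, b, hb, rfl⟩
    apply Subtype.ext
    have hmem : ⁅(⟨a, ha⟩ : F), ⟨b, hb⟩⁆ ∈ frattini F := Basics.commutator_le_frattini
      (by rw [_root_.commutator_def]; exact commutator_mem_commutator (mem_top _) (mem_top _))
    have h1 : ⁅a, b⁆ ∈ Φ := Basics.map_frattini_le F ⟨_, hmem, map_commutatorElement F.subtype _ _⟩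
    have h2 : ⁅π a, π b⁆ = 1 := by
      rw [← map_commutatorElement]
      exact (QuotientGroup.eq_one_iff _).2 h1
    exact commutatorElement_eq_one_iff_mul_comm.mp h2
  have hnil : ∀ N : Subgroup (G ⧸ Φ), N.Normal → Group.IsNilpotent N → N ≤ F.map π := by
    intro N hN hNn
    haveI := hN
    have h1 : Group.IsNilpotent (N.comap π) := Basics.isNilpotent_of_map_quotient _ Φ le_rfl
      (by rwa [map_comap_eq_self_of_surjective hπs N])
    rw [← map_comap_eq_self_of_surjective hπs N]
    exact map_mono (Basics.le_fittingSubgroup h1)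
  have hQ := derived_two_le hsq' (F.map π) hcomm hnil
  have h2 : derivedSeries G 2 ≤ F := by
    rw [← hcomap, ← Subgroup.map_le_iff_le_comap, map_derivedSeries_eq hπs,
      ← QuotientGroup.ker_mk' (F.map π), ← Subgroup.map_eq_bot_iff,
      map_derivedSeries_eq (QuotientGroup.mk'_surjective _), hQ]
  have h4 := derivedSeries_add_le F h2 2
  rw [metabelian_nilpotent (squarefree_normal h F), Subgroup.map_bot] at h4
  exact le_bot_iff.mp h4

end Cfsg.Agent.CT.SquarefreeDegrees
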