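import Cfsg.Agent.Lib.CT.SquarefreeDegrees.Fitting
import Cfsg.Agent.Lib.CT.BrolineGarrison.Regular
import Cfsg.Agent.Lib.Basics.Frattini

/-! Squarefree degrees: the quotient by the Fitting subgroup is metabelian. -/

set_option autoImplicit false
set_option linter.style.haveILetI false

namespace Cfsg.Agent.CT.SquarefreeDegrees

open Cfsg Subgroup
open scoped commutatorElement IsMulCommutative

universe u

theorem pCore_normal (p : ℕ) (Q : Type u) [Group Q] [Finite Q] : (Cfsg.pCore p Q).Normal := by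
  refine ⟨fun x hx g => ?_⟩
  have h : (Cfsg.pCore p Q).map (MulAut.conj g).toMonoidHom ≤ Cfsg.pCore p Q := by
    rw [Cfsg.pCore, sSup_eq_iSup', Subgroup.map_iSup]
    refine iSup_le fun N => le_trans ?_ (le_iSup _ N)
    rintro _ ⟨y, hy, rfl⟩
    exact N.2.1.conj_mem y hy g
  exact h ⟨x, hx, rfl⟩

/-- The heart: an action on an abelian `p'`-group, faithful and with all orbits of size at most `p`. -/
theorem card_dvd_of_orbits {P : Type u} [Group P] [Finite P] {p : ℕ} [hp : Fact p.Prime]
    (hP : IsPGroup p P) {W : Type u} [CommGroup W] [Finite W] (hW : (Nat.card W).Coprime p)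
    (σ : P → W →* W) (h1 : ∀ v, σ 1 v = v) (hmul : ∀ a b v, σ (a * b) v = σ a (σ b v))
    (hfaith : ∀ a, (∀ v, σ a v = v) → a = 1)
    (horb : ∀ (v : W) (S : Subgroup P), (∀ a, a ∈ S ↔ σ a v = v) → S.index ∣ p) :
    Nat.card P ∣ p := by
  let St : W → Subgroup P := fun v =>
    { carrier := {a | σ a v = v}
      one_mem' := h1 v
      mul_mem' := fun {a b} (ha : σ a v = v) (hb : σ b v = v) => by
        show σ (a * b) v = v
        rw [hmul, hb, ha]
      inv_mem' := fun {a} (ha : σ a v = v) => by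
        show σ a⁻¹ v = v
        conv_lhs => rw [← ha]
        rw [← hmul, inv_mul_cancel, h1] }
  haveI := hP.isNilpotent
  have hcomm : ∀ a b : P, a * b = b * a := by
    intro a b
    have hmem : ⁅a, b⁆ = 1 := by
      refine hfaith _ fun v => ?_
      show ⁅a, b⁆ ∈ St v
      rcases (Nat.dvd_prime hp.out).mp (horb v (St v) fun _ => Iff.rfl) with hi | hi
      · rw [Subgroup.index_eq_one.mp hi]; trivial
      · haveI : (St v).Normal := by
          refine Subgroup.normal_of_index_eq_minFac_card (hi.trans ?_)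
          obtain ⟨n, hn⟩ := hP.exists_card_eq
          have hdvd : p ∣ Nat.card P := hi ▸ (St v).index_dvd_card
          rw [hn]
          rcases n with _ | n
          · rw [hn, pow_zero] at hdvd
            exact absurd (Nat.dvd_one.mp hdvd) hp.out.ne_one
          · exact (Nat.pow_minFac n.succ_ne_zero).trans hp.out.minFac_eq |>.symm
        rw [← QuotientGroup.eq_one_iff, ← QuotientGroup.mk'_apply, map_commutatorElement,
          commutatorElement_eq_one_iff_mul_comm]
        haveI : IsCyclic (P ⧸ St v) := isCyclic_of_prime_card (p := p)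
          (by rw [← Subgroup.index_eq_card, hi])
        exact (IsCyclic.commutative (α := P ⧸ St v)).is_comm.comm _ _
    exact commutatorElement_eq_one_iff_mul_comm.mp hmem
  have hcop : (Nat.card P).Coprime (Nat.card W) := by
    obtain ⟨n, hn⟩ := hP.exists_card_eq
    rw [hn]
    exact hW.symm.pow_left n
  obtain ⟨v, -, hv⟩ := Garrison.exists_regular hcomm σ h1 hmul hcop ⊤ (fun _ _ _ => mem_top _)
  have := horb v ⊥ fun a => ⟨fun ha => by rw [mem_bot.mp ha, h1],
    fun ha => mem_bot.mpr (hfaith a fun w => hv a ha w (mem_top _))⟩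
  rwa [Subgroup.index_bot] at this

variable {G : Type u} [Group G] [Finite G]

theorem card_pCore_dvd (h : ∀ χ : IrrCharacter G, Squarefree (CT.deg (χ : G → ℂ)))
    (V : Subgroup G) [V.Normal] (hVc : ∀ a b : V, a * b = b * a)
    (hnil : ∀ N : Subgroup G, N.Normal → Group.IsNilpotent N → N ≤ V)
    (p : ℕ) [hp : Fact p.Prime] : Nat.card (Cfsg.pCore p (G ⧸ V)) ∣ p := by
  classical
  haveI : IsMulCommutative V := ⟨⟨hVc⟩⟩
  haveI := Fintype.ofFinite G
  letI := Fintype.ofFinite V
  set P := Cfsg.pCore p (G ⧸ V) with hPdef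
  haveI hPn : P.Normal := pCore_normal p _
  have hPp : IsPGroup p P := Basics.pCore_isPGroup p
  have hcardΛ : Nat.card (V →* ℂˣ) = Nat.card V :=
    CommGroup.card_monoidHom_of_hasEnoughRootsOfUnity V ℂ
  haveI : Finite (V →* ℂˣ) := Nat.finite_of_card_ne_zero (by rw [hcardΛ]; exact Nat.card_pos.ne')
  set n := Nat.card (V →* ℂˣ) with hn
  have hn0 : n ≠ 0 := Nat.card_pos.ne'
  let σ : G ⧸ V → ((V →* ℂˣ) →* (V →* ℂˣ)) := fun a =>
    MonoidHom.mk' (TwoDeg.act V (Quotient.out a)⁻¹) (TwoDeg.act_hom_mul V _)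
  have hσ : ∀ (g : G) (m : V →* ℂˣ), σ (g : G ⧸ V) m = TwoDeg.act V g⁻¹ m := by
    intro g m
    obtain ⟨v, hv⟩ := QuotientGroup.mk_out_eq_mul V g
    show TwoDeg.act V (Quotient.out (g : G ⧸ V))⁻¹ m = _
    rw [hv, mul_inv_rev, TwoDeg.act_mul,
      (TwoDeg.mem_St V).mp (TwoDeg.le_St V hVc m (V.inv_mem v.2))]
  have hσ1 : ∀ m, σ 1 m = m := fun m => by
    rw [← QuotientGroup.mk_one, hσ, inv_one, TwoDeg.act_one]
  have hσmul : ∀ a b m, σ (a * b) m = σ a (σ b m) := by
    intro a b m
    induction a using QuotientGroup.induction_on with | _ a =>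
    induction b using QuotientGroup.induction_on with | _ b =>
    rw [← QuotientGroup.mk_mul, hσ, hσ, hσ, mul_inv_rev, TwoDeg.act_mul]
  let W : Subgroup (V →* ℂˣ) := (powMonoidHom (ordCompl[p] n)).ker
  have hWi : ∀ (a : P) (k : W), σ a k ∈ W := fun a k =>
    (map_pow (σ a) (k : V →* ℂˣ) (ordCompl[p] n)).symm.trans
      ((congrArg (σ (a : G ⧸ V)) k.2).trans (map_one _))
  let σ' : P → W →* W := fun a => ((σ a).comp W.subtype).codRestrict W (hWi a)
  refine card_dvd_of_orbits hPp (W := W) ?_ σ' (fun k => Subtype.ext (hσ1 _))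
    (fun a b k => Subtype.ext (hσmul _ _ _)) ?_ ?_
  · -- `W` has order prime to `p`
    refine Nat.Coprime.symm ((Nat.Prime.coprime_iff_not_dvd hp.out).mpr fun hdvd => ?_)
    obtain ⟨k, hk⟩ := exists_prime_orderOf_dvd_card' p hdvd
    have h1 : k ^ ordCompl[p] n = 1 := Subtype.ext k.2
    have h2 := orderOf_dvd_of_pow_eq_one h1
    rw [hk] at h2
    exact Nat.not_dvd_ordCompl hp.out hn0 h2
  · -- faithfulness
    intro y hy
    set e := ordProj[p] n with he
    set D : Subgroup G := (powMonoidHom (α := V) e).range.map V.subtype with hD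
    have hDV : D ≤ V := map_subtype_le _
    haveI hDn : D.Normal := by
      refine ⟨?_⟩
      rintro _ ⟨_, ⟨v, rfl⟩, rfl⟩ g
      refine ⟨_, ⟨⟨g * v * g⁻¹, Normal.conj_mem inferInstance _ v.2 g⟩, rfl⟩, ?_⟩
      simp [powMonoidHom_apply, conj_pow]
    set M := P.comap (QuotientGroup.mk' V) ⊓ centralizer (D : Set G) with hM
    haveI : M.Normal := normal_inf_normal _ _
    have hMnil : Group.IsNilpotent M := by
      haveI : (D.subgroupOf M).Normal := inferInstance
      have hq : IsPGroup p (M ⧸ D.subgroupOf M) := by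
        intro z
        induction z using QuotientGroup.induction_on with | _ z =>
        obtain ⟨j, hj⟩ := hPp ⟨_, z.2.1⟩
        refine ⟨j + n.factorization p, ?_⟩
        rw [← QuotientGroup.mk_pow, QuotientGroup.eq_one_iff, mem_subgroupOf,
          SubmonoidClass.coe_pow, pow_add, pow_mul]
        have hzV : (z : G) ^ p ^ j ∈ V := by
          rw [← QuotientGroup.eq_one_iff, QuotientGroup.mk_pow]
          exact congrArg Subtype.val hj
        exact ⟨_, ⟨⟨_, hzV⟩, rfl⟩, rfl⟩
      haveI := hq.isNilpotent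
      refine Subgroup.isNilpotent_of_ker_le_center (QuotientGroup.mk' (D.subgroupOf M)) ?_
      rw [QuotientGroup.ker_mk']
      intro d hd
      rw [mem_center_iff]
      intro z
      exact Subtype.ext (mem_centralizer_iff.mp z.2.2 d hd).symm
    obtain ⟨g, hg⟩ := QuotientGroup.mk_surjective (y : G ⧸ V)
    suffices g ∈ M by
      apply Subtype.ext
      rw [← hg, OneMemClass.coe_one]
      exact (QuotientGroup.eq_one_iff g).mpr (hnil M inferInstance hMnil this)
    refine ⟨?_, mem_centralizer_iff.mpr ?_⟩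
    · show QuotientGroup.mk g ∈ P
      rw [hg]
      exact y.2
    · rintro _ ⟨_, ⟨v, rfl⟩, rfl⟩
      set v' : V := ⟨g⁻¹ * v * g⁻¹⁻¹, Normal.conj_mem inferInstance _ v.2 _⟩ with hv'
      have hvv : v' ^ e = v ^ e := by
        by_contra hne
        obtain ⟨k, hk⟩ := CommGroup.exists_apply_ne_one_of_hasEnoughRootsOfUnity V ℂ
          (a := v' ^ e / v ^ e) (by rwa [Ne, div_eq_one])
        apply hk
        have hkW : k ^ e ∈ W := by
          show (k ^ e) ^ ordCompl[p] n = 1
          refine (pow_mul k e _).symm.trans ?_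
          rw [he, Nat.ordProj_mul_ordCompl_eq_self]
          exact pow_card_eq_one'
        have h' : σ (y : G ⧸ V) (k ^ e) = k ^ e := congrArg Subtype.val (hy ⟨k ^ e, hkW⟩)
        rw [← hg, hσ] at h'
        have h2 := DFunLike.congr_fun h' v
        rw [TwoDeg.act_apply] at h2
        rw [map_div, map_pow, map_pow, div_eq_one]
        exact h2
      have h3 := congrArg Subtype.val hvv
      simp only [hv', SubmonoidClass.coe_pow, inv_inv] at h3
      show (v : G) ^ e * g = g * (v : G) ^ e
      have h4 : g⁻¹ * (v : G) ^ e * g = (v : G) ^ e := by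
        have h5 := conj_pow (i := e) (a := g⁻¹) (b := (v : G))
        rw [inv_inv] at h5
        rw [← h5]
        exact h3
      conv_rhs => rw [← h4]
      simp only [mul_assoc, mul_inv_cancel_left]
  · -- small orbits
    intro v S hS
    set l : V →* ℂˣ := (v : V →* ℂˣ) with hl
    have hlam : IsIrrCharacter V (fun m : V => (l m : ℂ)) := CT.isIrrCharacter_lin l
    obtain ⟨χ, hχ⟩ := CT.exists_irr_over V hlam
    have hcm := CT.clifford_mult V χ.2 hlam hχ
    rw [TwoDeg.inertia_eq_St V l] at hcm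
    have hd1 : CT.deg (fun m : V => (l m : ℂ)) = 1 := by simp [CT.deg]
    rw [hd1, mul_one, mul_comm] at hcm
    have hsq : Squarefree (TwoDeg.St V l).index :=
      (h χ).squarefree_of_dvd ⟨_, hcm⟩
    set T := (TwoDeg.St V l).map (QuotientGroup.mk' V) with hTdef
    have hTi : T.index = (TwoDeg.St V l).index :=
      Subgroup.index_map_eq _ (QuotientGroup.mk'_surjective V)
        (by rw [QuotientGroup.ker_mk']; exact TwoDeg.le_St V hVc l)
    have hST : S = T.subgroupOf P := by
      ext a
      rw [hS, mem_subgroupOf]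
      obtain ⟨g, hg⟩ := QuotientGroup.mk_surjective (a : G ⧸ V)
      have hiff : σ' a v = v ↔ g⁻¹ ∈ TwoDeg.St V l := by
        rw [TwoDeg.mem_St, ← hσ, hg, Subtype.ext_iff]
        rfl
      rw [hiff, inv_mem_iff]
      constructor
      · intro hgT
        exact ⟨g, hgT, hg⟩
      · rintro ⟨g', hg', he'⟩
        have : g'⁻¹ * g ∈ V := by
          rw [← QuotientGroup.eq_one_iff, QuotientGroup.mk_mul, QuotientGroup.mk_inv, hg, ← he']
          exact inv_mul_cancel _
        simpa using mul_mem hg' (TwoDeg.le_St V hVc l this)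
    have h1 : T.relIndex P ∣ T.index := by
      have hc := Basics.card_mul_card_eq_card_sup_mul_card_inf (N := P) (H := T)
        (by rw [Subgroup.normalizer_eq_top]; exact le_top)
      have h2 := (T.subgroupOf (P ⊔ T)).card_mul_index
      have h3 := (T.subgroupOf P).card_mul_index
      rw [Nat.card_congr (subgroupOfEquivOfLe (le_sup_right : T ≤ P ⊔ T)).toEquiv] at h2
      have h4 : Nat.card (T.subgroupOf P) = Nat.card (P ⊓ T : Subgroup (G ⧸ V)) := by
        rw [← Nat.card_congr (subgroupOfEquivOfLe (inf_le_left : P ⊓ T ≤ P)).toEquiv,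
          Subgroup.inf_subgroupOf_left]
      rw [h4] at h3
      have h5 : T.relIndex (P ⊔ T) = T.relIndex P := by
        refine Nat.eq_of_mul_eq_mul_left
          (Nat.mul_pos (Nat.card_pos (α := T)) (Nat.card_pos (α := (P ⊓ T : Subgroup (G ⧸ V))))) ?_
        show Nat.card T * Nat.card (P ⊓ T : Subgroup (G ⧸ V)) * (T.subgroupOf (P ⊔ T)).index =
          Nat.card T * Nat.card (P ⊓ T : Subgroup (G ⧸ V)) * (T.subgroupOf P).index
        rw [mul_comm (Nat.card T) (Nat.card (P ⊓ T : Subgroup (G ⧸ V))), mul_assoc, h2,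
          mul_assoc (Nat.card (P ⊓ T : Subgroup (G ⧸ V))), mul_left_comm _ (Nat.card T), h3,
          mul_comm (Nat.card T) (Nat.card P), hc]
        ring
      rw [← h5, ← Subgroup.relIndex_mul_index (le_sup_right : T ≤ P ⊔ T)]
      exact Dvd.intro _ rfl
    have hsq' : Squarefree (T.relIndex P) := hsq.squarefree_of_dvd (hTi ▸ h1)
    obtain ⟨j, hj⟩ := hPp.index (T.subgroupOf P)
    rw [hST, hj]
    rcases j with _ | _ | j
    · simp
    · simp
    · exfalso
      have : p * p ∣ T.relIndex P := by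
        show p * p ∣ (T.subgroupOf P).index
        rw [hj]
        exact ⟨p ^ j, by ring⟩
      exact hp.out.ne_one (Nat.isUnit_iff.mp (hsq' p this))

/-- The quotient by a self-centralising abelian Fitting subgroup is metabelian. -/
theorem derived_two_le [Group.IsSolvable G] (h : ∀ χ : IrrCharacter G, Squarefree (CT.deg (χ : G → ℂ)))
    (V : Subgroup G) [V.Normal] (hVc : ∀ a b : V, a * b = b * a)
    (hnil : ∀ N : Subgroup G, N.Normal → Group.IsNilpotent N → N ≤ V) :
    derivedSeries (G ⧸ V) 2 = ⊥ := by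
  classical
  set Q := G ⧸ V
  haveI : Group.IsSolvable Q :=
    Group.isSolvable_of_surjective (QuotientGroup.mk'_surjective V)
  have hcen : ∀ (p : ℕ) [Fact p.Prime], commutator Q ≤ centralizer (Cfsg.pCore p Q : Set Q) := by
    intro p _
    haveI := pCore_normal p Q
    rw [commutator_def, Subgroup.commutator_le]
    intro g _ k _
    rw [mem_centralizer_iff]
    intro x hx
    have hcyc : IsCyclic (Cfsg.pCore p Q) := by
      rcases (Nat.dvd_prime (Fact.out : p.Prime)).mp (card_pCore_dvd h V hVc hnil p) with h1 | h1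
      · haveI := (Nat.card_eq_one_iff_unique.mp h1).1
        infer_instance
      · exact isCyclic_of_prime_card h1
    obtain ⟨z, hz⟩ := hcyc.exists_generator
    obtain ⟨i, hi⟩ := mem_zpowers_iff.mp (hz ⟨g * z * g⁻¹, Normal.conj_mem inferInstance _ z.2 g⟩)
    obtain ⟨j, hj⟩ := mem_zpowers_iff.mp (hz ⟨k * z * k⁻¹, Normal.conj_mem inferInstance _ z.2 k⟩)
    obtain ⟨m, hm⟩ := mem_zpowers_iff.mp (hz ⟨x, hx⟩)
    have hi' : (z : Q) ^ i = g * z * g⁻¹ := by simpa using congrArg Subtype.val hi
    have hj' : (z : Q) ^ j = k * z * k⁻¹ := by simpa using congrArg Subtype.val hj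
    have hm' : (z : Q) ^ m = x := by simpa using congrArg Subtype.val hm
    have hgx : ∀ a : ℤ, g * (z : Q) ^ a * g⁻¹ = (z : Q) ^ (i * a) := fun a => by
      rw [zpow_mul, hi', conj_zpow]
    have hkx : ∀ a : ℤ, k * (z : Q) ^ a * k⁻¹ = (z : Q) ^ (j * a) := fun a => by
      rw [zpow_mul, hj', conj_zpow]
    have h1 : g * k * x * (g * k)⁻¹ = k * g * x * (k * g)⁻¹ := by
      calc g * k * x * (g * k)⁻¹ = g * (k * x * k⁻¹) * g⁻¹ := by group
        _ = k * (g * x * g⁻¹) * k⁻¹ := by
          rw [← hm', hkx, hgx, hgx, hkx, ← mul_assoc, mul_comm i j, mul_assoc]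
        _ = k * g * x * (k * g)⁻¹ := by group
    have h2 : ∀ a b : Q, ∀ w : Q, a * w * a⁻¹ = b * w * b⁻¹ → w * (a⁻¹ * b) = (a⁻¹ * b) * w := by
      intro a b w hw
      calc w * (a⁻¹ * b) = a⁻¹ * (a * w * a⁻¹) * b := by group
        _ = (a⁻¹ * b) * w := by rw [hw]; group
    -- transport `x` by `(g * k)⁻¹`
    have h3 : x * (g * k * (k * g)⁻¹) = (g * k * (k * g)⁻¹) * x := by
      set y := (k * g)⁻¹ * x * (k * g) with hy
      have hyP : y ∈ Cfsg.pCore p Q := Normal.conj_mem' inferInstance x hx _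
      obtain ⟨m', hm2⟩ := mem_zpowers_iff.mp (hz ⟨y, hyP⟩)
      have hm2' : (z : Q) ^ m' = y := by simpa using congrArg Subtype.val hm2
      have h4 : g * k * y * (g * k)⁻¹ = k * g * y * (k * g)⁻¹ := by
        calc g * k * y * (g * k)⁻¹ = g * (k * y * k⁻¹) * g⁻¹ := by group
          _ = k * (g * y * g⁻¹) * k⁻¹ := by
            rw [← hm2', hkx, hgx, hgx, hkx, ← mul_assoc, mul_comm i j, mul_assoc]
          _ = k * g * y * (k * g)⁻¹ := by group
      have h5 : k * g * y * (k * g)⁻¹ = x := by rw [hy]; group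
      calc x * (g * k * (k * g)⁻¹) = (k * g * y * (k * g)⁻¹) * (g * k * (k * g)⁻¹) := by rw [h5]
        _ = (g * k * y * (g * k)⁻¹) * (g * k * (k * g)⁻¹) := by rw [h4]
        _ = (g * k * (k * g)⁻¹) * (k * g * y * (k * g)⁻¹) := by group
        _ = _ := by rw [h5]
    rw [show ⁅g, k⁆ = g * k * (k * g)⁻¹ by rw [commutatorElement_def]; group]
    exact h3
  have hF : commutator Q ≤ Cfsg.fittingSubgroup Q := by
    refine le_trans ?_ Basics.centralizer_fittingSubgroup_le
    rw [Subgroup.le_centralizer_iff, Basics.fittingSubgroup_eq_iSup_pCore]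
    refine iSup_le fun q => ?_
    haveI : Fact (q : ℕ).Prime := ⟨q.2⟩
    exact Subgroup.le_centralizer_iff.mp (hcen q)
  have hFc : commutator Q ≤ centralizer (Cfsg.fittingSubgroup Q : Set Q) := by
    rw [Subgroup.le_centralizer_iff, Basics.fittingSubgroup_eq_iSup_pCore]
    refine iSup_le fun q => ?_
    haveI : Fact (q : ℕ).Prime := ⟨q.2⟩
    exact Subgroup.le_centralizer_iff.mp (hcen q)
  rw [derivedSeries_succ, derivedSeries_one, commutator_eq_bot_iff_le_centralizer]
  exact hFc.trans (centralizer_le hF)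

end Cfsg.Agent.CT.SquarefreeDegrees
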